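import Cfsg.Agent.Lib.FrobeniusSystem.Solvable
import Cfsg.Agent.Lib.TICentralisers.Main
import Cfsg.Agent.Lib.PComplement.FixedPointFree
import Cfsg.Agent.Lib.CharInt.FrobeniusKernel
import Cfsg.Agent.Lib.CharInt.BrauerSuzuki
import Cfsg.Agent.Lib.Frobenius.Basic

/-!
# Systems of Frobenius kernels in nonsolvable groups

The maximal solvable subgroup `M` over the normaliser of a Sylow 2-subgroup is strongly embedded
and `(M, F M)` is a configuration `TICentralisers.Cfg`.
-/

set_option autoImplicit false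
set_option linter.style.haveILetI false
open scoped Pointwise

namespace Cfsg.Agent.FrobSystem

open Subgroup
open Cfsg.Agent.Involution
open Cfsg (IsStronglyEmbedded)

variable {G : Type*} [Group G] [Finite G] {F : Subgroup G → Subgroup G}

theorem oddCore_eq_bot (h : Sys F) (hns : ¬ Group.IsSolvable G) : Cfsg.oddCore G = ⊥ := by
  haveI : (Cfsg.oddCore G).Normal := by unfold Cfsg.oddCore; infer_instance
  exact solvable_normal_eq_bot h hns _ (S0205.result PCore.odd_card_oddCore)

/-- No isolated involutions. -/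
theorem not_isIsolated (h : Sys F) (hns : ¬ Group.IsSolvable G) {t : G}
    (ht : Cfsg.IsIsolatedInvolution t) : False := by
  have hz := ZStar.mem_center_of_oddCore_eq_bot (ZStar.inZStar ht) (oddCore_eq_bot h hns)
  have hzn : (zpowers t).Normal := ⟨fun n hn x => by
    obtain ⟨k, rfl⟩ := mem_zpowers_iff.1 hn
    rw [Subgroup.mem_center_iff.1 (zpow_mem hz k) x, mul_inv_cancel_right]
    exact zpow_mem_zpowers t k⟩
  have h1 := abelian_normal_eq_bot h hns _ hzn inferInstance
  rw [zpowers_eq_bot] at h1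
  have h2 := ht.1
  rw [h1, orderOf_one] at h2
  omega

/-- Thompson: the kernel of a Frobenius group is nilpotent. -/
theorem isNilpotent_of_lt {M K : Subgroup G} (hKM : K < M) (hn : M ≤ normalizer (K : Set G))
    (hfpf : ∀ a ∈ M, a ∉ K → ∀ x ∈ K, x * a = a * x → x = 1) : Group.IsNilpotent K := by
  rcases eq_or_ne K ⊥ with rfl | hK
  · infer_instance
  obtain ⟨a, haM, haK⟩ := SetLike.exists_of_lt hKM
  -- some power of `a` outside `K` has a prime power inside
  have hkey : ∀ j : ℕ, ∀ b ∈ M, b ∉ K → orderOf b ≤ j →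
      ∃ b ∈ M, b ∉ K ∧ ∃ p : ℕ, p.Prime ∧ b ^ p ∈ K := by
    intro j
    induction j with
    | zero => intro b _ _ hb; have := orderOf_pos b; omega
    | succ j ihj =>
      intro b hbM hbK hb
      have h1 : orderOf b ≠ 1 := fun e => hbK (by
        rw [orderOf_eq_one_iff.1 e]; exact one_mem K)
      obtain ⟨q, hq, hqd⟩ := Nat.exists_prime_and_dvd h1
      by_cases hbq : b ^ q ∈ K
      · exact ⟨b, hbM, hbK, q, hq, hbq⟩
      refine ihj _ (M.pow_mem hbM q) hbq ?_
      rw [orderOf_pow_of_dvd hq.ne_zero hqd]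
      have := Nat.div_lt_self (orderOf_pos b) hq.one_lt
      omega
  obtain ⟨b, hbM, hbK, p, hp, hbp⟩ := hkey _ a haM haK le_rfl
  haveI := Fact.mk hp
  have hbp1 : b ^ p = 1 := hfpf b hbM hbK _ hbp ((Commute.refl b).pow_left p)
  have hmem : ∀ x : G, x ∈ K ↔ b * x * b⁻¹ ∈ K := mem_normalizer_iff.1 (hn hbM)
  let α : MulAut K :=
    { toFun := fun x => ⟨b * x * b⁻¹, (hmem x).1 x.2⟩
      invFun := fun x => ⟨b⁻¹ * x * b, by
        rw [hmem, show b * (b⁻¹ * (x : G) * b) * b⁻¹ = x by group]; exact x.2⟩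
      left_inv := fun x => Subtype.ext (show b⁻¹ * (b * (x : G) * b⁻¹) * b = x by group)
      right_inv := fun x => Subtype.ext (show b * (b⁻¹ * (x : G) * b) * b⁻¹ = x by group)
      map_mul' := fun x y => Subtype.ext
        (show b * ((x : G) * y) * b⁻¹ = b * x * b⁻¹ * (b * y * b⁻¹) by group) }
  have hαk : ∀ (k : ℕ) (x : K), (((α ^ k) x : K) : G) = b ^ k * x * (b ^ k)⁻¹ := by
    intro k
    induction k with
    | zero => intro x; simp
    | succ k ihk =>
      intro x
      rw [pow_succ', MulAut.mul_apply]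
      show b * (((α ^ k) x : K) : G) * b⁻¹ = _
      rw [ihk, pow_succ', mul_inv_rev]
      group
  refine PComplement.isNilpotent_of_fpf (p := p) K α ?_ fun x hx => Subtype.ext ?_
  · ext x
    rw [hαk, hbp1]
    simp
  · have h1 : b * (x : G) * b⁻¹ = x := congrArg Subtype.val hx
    rw [mul_inv_eq_iff_eq_mul] at h1
    exact hfpf b hbM hbK x x.2 h1.symm

/-- The configuration over the normaliser of a Sylow 2-subgroup. -/
theorem exists_cfg (h : Sys F) (hns : ¬ Group.IsSolvable G) :
    ∃ M C : Subgroup G, TICentralisers.Cfg M C := by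
  haveI : Fact (Nat.Prime 2) := ⟨Nat.prime_two⟩
  have h2G : 2 ∣ Nat.card G := by
    by_contra h2
    exact hns (S0205.result (Nat.odd_iff.2 (Nat.two_dvd_ne_zero.1 h2)))
  obtain ⟨S⟩ := (inferInstance : Nonempty (Sylow 2 G))
  obtain ⟨M, hNM, hM⟩ := exists_isMaxSolvable (isSolvable_normalizer S)
  have hSM : (S : Subgroup G) ≤ M := le_normalizer.trans hNM
  have h2M : 2 ∣ Nat.card M :=
    (S.dvd_card_of_dvd_card h2G).trans (card_dvd_of_le hSM)
  have hMtop := ne_top h hns hM
  obtain ⟨hFM, hn, hfpf, hti, hor⟩ := h M hM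
  have hF : F M ≠ ⊥ := hor.resolve_right fun hMc => hns (isSolvable_of_comm_normalizer S
    ⟨⟨fun a b => Subtype.ext (congrArg Subtype.val
      (hMc.is_comm.comm ⟨a, hNM a.2⟩ ⟨b, hNM b.2⟩) :)⟩⟩)
  -- `M` is not its own kernel
  have hlt : F M < M := lt_of_le_of_ne hFM fun e => by
    have hM1 : M ≠ ⊥ := fun e' => hF (e.trans e')
    have hFr : Cfsg.IsFrobeniusComplement M :=
      ⟨hM1, hMtop, fun g hg => by rw [← e]; exact hti g hg⟩
    obtain ⟨N, -, hNn, hNc⟩ := CharInt.exists_frobeniusKernel hFr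
    have hodd : Odd (Nat.card N) := by
      rw [← hNc.index_eq_card]
      have h1 := Frobenius.index_mod_card hFr
      obtain ⟨j, hj⟩ := h2M
      have h2 : M.index % 2 = 1 := by
        rw [← Nat.mod_mod_of_dvd M.index (⟨j, hj⟩ : 2 ∣ Nat.card M), h1,
          Nat.mod_mod_of_dvd 1 (⟨j, hj⟩ : 2 ∣ Nat.card M)]
      exact Nat.odd_iff.2 h2
    have hN1 : N = ⊥ := solvable_normal_eq_bot h hns N (S0205.result hodd)
    subst hN1
    exact hMtop (isComplement'_bot_left.1 hNc)
  haveI : Group.IsNilpotent (F M) := isNilpotent_of_lt hlt hn hfpf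
  have htiM : ∀ {g x : G}, x ∈ F M → x ≠ 1 → g⁻¹ * x * g ∈ F M → g ∈ M := by
    intro g x hx hx1 hgx
    by_contra hg
    have : x ∈ F M ⊓ MulAut.conj g • F M := ⟨hx,
      Subgroup.mem_pointwise_smul_iff_inv_smul_mem.2 (by
        rwa [← map_inv, MulAut.smul_def, MulAut.conj_apply, inv_inv])⟩
    rw [hti g hg, Subgroup.mem_bot] at this
    exact hx1 this
  have hcent : ∀ {x c : G}, c ∈ F M → c ≠ 1 → Commute x c → x ∈ F M := by
    intro x c hc hc1 hxc
    have hx : x ∈ M := htiM hc hc1 (by rwa [mul_assoc, ← hxc.eq, inv_mul_cancel_left])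
    by_contra hxF
    exact hc1 (hfpf x hx hxF c hc hxc.eq.symm)
  -- the kernel has even order
  have hev : ∃ s ∈ F M, orderOf s = 2 := by
    by_contra hno
    push Not at hno
    have hfix : ∀ s ∈ M, orderOf s = 2 → ∀ x ∈ F M, s * x * s = x⁻¹ := by
      intro s hs hs2
      have hsF : s ∉ F M := fun hsF => hno s hsF hs2
      refine TICentralisers.inverts_of_fpf (StrongEmb.mul_self_of_orderOf hs2) (F M)
        (fun x hx => ?_) fun x hx hxs => hfpf s hs hsF x hx hxs.eq
      have := (mem_normalizer_iff.1 (hn hs) x).1 hx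
      rwa [StrongEmb.inv_eq_of_orderOf hs2] at this
    obtain ⟨⟨x, hx⟩, hx1⟩ := Subgroup.ne_bot_iff_exists_ne_one.1 hF
    have huniq : ∀ s ∈ M, ∀ t ∈ M, orderOf s = 2 → orderOf t = 2 → Commute s t → s = t := by
      intro s hs t ht hs2 ht2 hst
      have hss := StrongEmb.mul_self_of_orderOf hs2
      have htt := StrongEmb.mul_self_of_orderOf ht2
      have hxst : Commute (s * t) x := by
        show s * t * x = x * (s * t)
        calc s * t * x = s * (t * x * t) * s * (s * t) := by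
              rw [mul_assoc (s * (t * x * t)) s (s * t), ← mul_assoc s s t, hss, one_mul,
                show s * (t * x * t) * t = s * t * x * (t * t) by group, htt, mul_one]
          _ = x * (s * t) := by
              rw [hfix t ht ht2 x hx, hfix s hs hs2 _ ((F M).inv_mem hx), inv_inv]
      have hstF : s * t ∈ F M := hcent hx (fun e => hx1 (Subtype.ext e)) hxst
      by_contra hne
      refine hno _ hstF (orderOf_eq_prime_iff.2 ⟨?_, fun e => hne ?_⟩)
      · rw [hst.mul_pow, pow_two, pow_two, hss, htt, one_mul]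
      · rw [mul_eq_one_iff_eq_inv] at e
        rw [e, StrongEmb.inv_eq_of_orderOf ht2]
    obtain ⟨⟨t, htS⟩, ht⟩ := exists_prime_orderOf_dvd_card' 2 (S.dvd_card_of_dvd_card h2G)
    rw [Subgroup.orderOf_mk] at ht
    refine not_isIsolated h hns (t := t) ⟨ht, fun g hc => ?_⟩
    by_contra hne
    have h2 : ∀ {y : G}, orderOf y = 2 → IsPGroup 2 (Subgroup.zpowers y) := fun {y} hy =>
      IsPGroup.of_card (n := 1) (by rw [Nat.card_zpowers, hy, pow_one])
    have hg2 : orderOf (g * t * g⁻¹) = 2 := by rw [StrongEmb.orderOf_conj', ht]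
    have hle : Subgroup.zpowers (g * t * g⁻¹) ≤
        Subgroup.normalizer (Subgroup.zpowers t : Set G) := by
      rw [Subgroup.zpowers_le]
      refine Subgroup.centralizer_le_normalizer _ (Subgroup.mem_centralizer_iff.2 ?_)
      rintro _ ⟨k, rfl⟩
      exact (hc.zpow_left k).eq
    obtain ⟨b, hb⟩ := CharInt.exists_conj_mem_sylow S
      (IsPGroup.to_sup_of_normal_right' (h2 hg2) (h2 ht) hle)
    have h1 : b * (g * t * g⁻¹) * b⁻¹ = b * t * b⁻¹ := huniq _
      (hSM (hb _ (mem_sup_left (mem_zpowers _)))) _ (hSM (hb _ (mem_sup_right (mem_zpowers t))))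
      (by rw [StrongEmb.orderOf_conj', hg2]) (by rw [StrongEmb.orderOf_conj', ht])
      (hc.symm.map (MulAut.conj b).toMonoidHom)
    exact hne (mul_left_cancel (mul_right_cancel h1))
  -- involutions of `M` lie in the Sylow subgroup's kernel part
  have hMS : ∀ s ∈ M, orderOf s = 2 → ∃ m ∈ M, m * s * m⁻¹ ∈ (S : Subgroup G) := by
    intro s hs hs2
    obtain ⟨P, hP⟩ := (IsPGroup.of_card (G := Subgroup.zpowers (⟨s, hs⟩ : M)) (p := 2) (n := 1)
      (by rw [Nat.card_zpowers, Subgroup.orderOf_mk, hs2, pow_one])).exists_le_sylow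
    obtain ⟨m, hm⟩ := MulAction.exists_smul_eq M P (S.subtype hSM)
    refine ⟨m, m.2, ?_⟩
    have h1 : m * (⟨s, hs⟩ : M) * m⁻¹ ∈ ((S.subtype hSM : Sylow 2 M) : Subgroup M) := by
      rw [← hm, Sylow.coe_subgroup_smul]
      exact Subgroup.smul_mem_pointwise_smul _ (MulAut.conj m) _ (hP (mem_zpowers _))
    rw [Sylow.coe_subtype] at h1
    exact h1
  obtain ⟨s₀, hs₀F, hs₀⟩ := hev
  haveI : Group.IsNilpotent (S : Subgroup G) := S.2.isNilpotent
  have hSF : (S : Subgroup G) ≤ F M := by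
    obtain ⟨m, hm, hms⟩ := hMS s₀ (hFM hs₀F) hs₀
    haveI : ((F M).subgroupOf (S : Subgroup G)).Normal :=
      Coprime.normal_subgroupOf_of_le_normalizer (hSM.trans hn)
    have hne : (F M).subgroupOf (S : Subgroup G) ≠ ⊥ := fun e => by
      have h1 : (⟨m * s₀ * m⁻¹, hms⟩ : (S : Subgroup G)) ∈ (F M).subgroupOf (S : Subgroup G) :=
        mem_subgroupOf.2 ((mem_normalizer_iff.1 (hn hm) s₀).1 hs₀F)
      rw [e, Subgroup.mem_bot] at h1
      have h2 : m * s₀ * m⁻¹ = 1 := congrArg Subtype.val h1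
      rw [conj_eq_one_iff] at h2
      rw [h2, orderOf_one] at hs₀
      omega
    obtain ⟨⟨z, hzF, hzc⟩, hz1⟩ := Subgroup.ne_bot_iff_exists_ne_one.1
      (Solvable.inf_center_ne_bot (N := (F M).subgroupOf (S : Subgroup G)) hne)
    intro x hx
    refine hcent (mem_subgroupOf.1 hzF) (fun e => hz1 (Subtype.ext (Subtype.ext e))) ?_
    exact congrArg Subtype.val (Subgroup.mem_center_iff.1 hzc ⟨x, hx⟩)
  have hinvF : ∀ s ∈ M, orderOf s = 2 → s ∈ F M := by
    intro s hs hs2
    obtain ⟨m, hm, hms⟩ := hMS s hs hs2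
    exact (mem_normalizer_iff.1 (hn hm) s).2 (hSF hms)
  have hse : IsStronglyEmbedded M := by
    refine ⟨hMtop, even_iff_two_dvd.2 h2M, fun g hg => ?_⟩
    by_contra heven
    obtain ⟨⟨y, hyM, w, hw, hwy⟩, hy⟩ := exists_prime_orderOf_dvd_card' 2
      (G := ↥(M ⊓ M.map (MulAut.conj g).toMonoidHom))
      (even_iff_two_dvd.1 (Nat.not_odd_iff_even.1 heven))
    rw [← Subgroup.orderOf_coe] at hy
    change orderOf y = 2 at hy
    change g * w * g⁻¹ = y at hwy
    have hy1 : y ≠ 1 := fun e => by rw [e, orderOf_one] at hy; omega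
    refine hg (htiM (hinvF y hyM hy) hy1 ?_)
    rw [← hwy, show g⁻¹ * (g * w * g⁻¹) * g = w by group]
    exact hinvF w hw (by rw [← StrongEmb.orderOf_conj' g w, hwy, hy])
  refine ⟨M, F M, fun c hc1 hex => ?_, hse, fun t ht ht2 => ?_, abelian_normal_eq_bot h hns⟩
  · obtain ⟨s, hs2, hsc⟩ := hex
    obtain ⟨b, hb⟩ := isConj_iff.1 (StrongEmb.isConj_involutions hse hs2
      (b := s₀) hs₀)
    have hc' : b * c * b⁻¹ ∈ F M := by
      refine hcent hs₀F (fun e => by rw [e, orderOf_one] at hs₀; omega) ?_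
      rw [← hb]
      exact hsc.symm.map (MulAut.conj b).toMonoidHom
    have hc'1 : b * c * b⁻¹ ≠ 1 := fun e => hc1 (conj_eq_one_iff.1 e)
    haveI : Group.IsNilpotent ((F M).map (MulAut.conj b⁻¹).toMonoidHom) :=
      Group.nilpotent_of_mulEquiv
        (Subgroup.equivMapOfInjective _ _ (MulAut.conj b⁻¹).injective)
    have hle : centralizer ({c} : Set G) ≤ (F M).map (MulAut.conj b⁻¹).toMonoidHom := by
      intro x hx
      refine ⟨b * x * b⁻¹, hcent hc' hc'1 ?_, ?_⟩
      · exact (show Commute x c from mem_centralizer_singleton_iff.1 hx).map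
          (MulAut.conj b).toMonoidHom
      · show b⁻¹ * (b * x * b⁻¹) * b⁻¹⁻¹ = x
        group
    exact Group.nilpotent_of_mulEquiv (Subgroup.subgroupOfEquivOfLe hle)
  · have htF := hinvF t ht ht2
    have ht1 : t ≠ 1 := fun e => by rw [e, orderOf_one] at ht2; omega
    refine le_antisymm (fun x hx => hcent htF ht1 (mem_centralizer_singleton_iff.1 hx))
      fun x hx => mem_centralizer_singleton_iff.2 ?_
    obtain ⟨z, hz, hz2, hzc⟩ := TICentralisers.exists_central_involution (K := F M) hs₀F hs₀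
    obtain ⟨b, hb⟩ := isConj_iff.1 (StrongEmb.isConj_involutions hse hz2 ht2)
    have hbM : b ∈ M := StrongEmb.mem_of_conj_eq hse (hFM hz) hz2 hb ht
    have hx' : b⁻¹ * x * b ∈ F M := by
      rw [mem_normalizer_iff.1 (hn hbM), show b * (b⁻¹ * x * b) * b⁻¹ = x by group]
      exact hx
    have h1 := (hzc _ hx').map (MulAut.conj b).toMonoidHom
    change Commute (b * (b⁻¹ * x * b) * b⁻¹) (b * z * b⁻¹) at h1
    rw [show b * (b⁻¹ * x * b) * b⁻¹ = x by group, hb] at h1
    exact h1.eq

end Cfsg.Agent.FrobSystem
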