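import Cfsg.Agent.Lib.FrobeniusSystem.Config
import Cfsg.Agent.Lib.PSL2.ClassSizes.Ident

/-!
# Systems of Frobenius kernels: solvable, `SL(2, 2^n)` or a Zassenhaus group with nonabelian kernel
-/

set_option autoImplicit false
set_option linter.style.haveILetI false
open scoped Pointwise

namespace Cfsg.Agent.FrobSystem

open Subgroup MulAction

variable {G : Type*} [Group G] [Finite G] {F : Subgroup G → Subgroup G}

theorem trichotomy (h : Sys F) :
    Group.IsSolvable G ∨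
      (∃ (K : Type) (_ : Field K) (_ : Fintype K), (∃ n : ℕ, 2 ≤ n ∧ Fintype.card K = 2 ^ n) ∧
        Nonempty (G ≃* Matrix.SpecialLinearGroup (Fin 2) K)) ∨
      (IsSimpleGroup G ∧ ∃ (M U : Subgroup G) (g : G), g ∉ M ∧
        Cfsg.IsZassenhausGroup G (G ⧸ M) ∧ U ≤ stabilizer G ((1 : G) : G ⧸ M) ∧
        Nat.card U + 1 = Nat.card (G ⧸ M) ∧
        (∀ u ∈ U, u ≠ 1 → ∀ x : G ⧸ M, u • x = x → x = ((1 : G) : G ⧸ M)) ∧
        IsPGroup 2 U ∧ ∃ u v : U, u * v ≠ v * u) := by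
  classical
  haveI : Fact (Nat.Prime 2) := ⟨Nat.prime_two⟩
  by_cases hns : Group.IsSolvable G
  · exact Or.inl hns
  refine Or.inr ?_
  obtain ⟨M, C, hcfg⟩ := exists_cfg h hns
  by_cases hc : ∀ x ∈ C, ∀ y ∈ C, Commute x y
  · left
    obtain ⟨n, hn, ⟨e⟩⟩ := hcfg.exists_psl fun w hw _ m hm =>
      hc _ (hcfg.conj_mem_C hm hw) _ hw
    haveI := Fintype.ofFinite (GaloisField 2 n)
    have h2 : (2 : GaloisField 2 n) = 0 := CharTwo.two_eq_zero
    refine ⟨GaloisField 2 n, inferInstance, inferInstance, ⟨n, hn, ?_⟩, ⟨e.trans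
      ((QuotientGroup.quotientMulEquivOfEq
        (PSLSizes.center_SL_eq_bot h2)).trans QuotientGroup.quotientBot)⟩⟩
    rw [← Nat.card_eq_fintype_card, GaloisField.card 2 n (by omega)]
  · right
    push Not at hc
    obtain ⟨x, hx, y, hy, hxy⟩ := hc
    haveI := Fintype.ofFinite G
    haveI := Fintype.ofFinite (G ⧸ M)
    set a : G ⧸ M := ((1 : G) : G ⧸ M) with ha
    obtain ⟨g, -, hg⟩ := SetLike.exists_of_lt (lt_top_iff_ne_top.2 hcfg.hse.1)
    have hab : a ≠ (g : G ⧸ M) := (TICentralisers.coe_ne_base hg).symm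
    have hZ := hcfg.isZassenhaus
    obtain ⟨t, ht, ht2⟩ := hcfg.exists_inv
    have h2C : 2 ∣ Nat.card C := ht2 ▸ C.orderOf_dvd_natCard (hcfg.inv_mem_C ht ht2)
    have hcard : Nat.card C + 1 = Fintype.card (G ⧸ M) := by
      rw [← Nat.card_eq_fintype_card]; exact hcfg.card_C
    have hodd : Odd (Fintype.card (G ⧸ M)) := by
      obtain ⟨j, hj⟩ := h2C
      exact ⟨j, by omega⟩
    haveI : IsSimpleGroup G := S0338.result hZ hodd
    have htwo : ZassenhausOdd.twoStab G a (g : G ⧸ M) = TICentralisers.dSub M g := by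
      ext d
      rw [ZassenhausOdd.mem_twoStab, TICentralisers.mem_dSub, TICentralisers.smul_base_iff,
        TICentralisers.smul_coe_eq_iff]
    have hCa : C ≤ stabilizer G a := fun c hc =>
      TICentralisers.smul_base_iff.2 (hcfg.C_le hc)
    have hfix : ∀ u ∈ C, u ≠ 1 → ∀ c : G ⧸ M, u • c = c → c = a := fun u hu hu1 c hc =>
      by_contra fun hca => hu1 (hcfg.semiregular hu hca hc)
    obtain ⟨p, k, hp, hk, hpk⟩ := ZassenhausFeit.isPrimePow_card_kernel hZ hab hCa hcard hfix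
      (htwo ▸ hcfg.odd_card hg)
    have h2p : 2 = p := (Nat.prime_dvd_prime_iff_eq Nat.prime_two hp.nat_prime).1
      (Nat.prime_two.dvd_of_dvd_pow (hpk ▸ h2C))
    exact ⟨inferInstance, M, C, g, hg, hZ, hCa, hcfg.card_C, hfix,
      IsPGroup.of_card (n := k) (by rw [h2p, hpk]),
      ⟨x, hx⟩, ⟨y, hy⟩, fun e => hxy (congrArg Subtype.val e)⟩

end Cfsg.Agent.FrobSystem
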