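import Cfsg.Agent.S0205
import Cfsg.Agent.Lib.Solvable.Basic
import Cfsg.Agent.Lib.Fischer.Module
import Cfsg.Agent.Lib.Coprime.Basic
import Mathlib.GroupTheory.Transfer

/-!
# Systems of Frobenius kernels: preliminaries on maximal solvable subgroups

`FrobSystem.Sys F`: every maximal solvable subgroup `M` carries a normal subgroup `F M` whose
centralisers are controlled and which is a TI subgroup.
-/

set_option autoImplicit false
set_option linter.style.haveILetI false
open scoped Pointwise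

namespace Cfsg.Agent.FrobSystem

open Subgroup

variable {G : Type*} [Group G]

/-- Maximal solvable subgroups. -/
def IsMaxSolvable (M : Subgroup G) : Prop :=
  Group.IsSolvable M ∧ ∀ M' : Subgroup G, M < M' → ¬ Group.IsSolvable M'

/-- The hypothesis on `F`. -/
def Sys (F : Subgroup G → Subgroup G) : Prop :=
  ∀ M : Subgroup G, IsMaxSolvable M →
    F M ≤ M ∧ M ≤ Subgroup.normalizer (F M : Set G) ∧
    (∀ a ∈ M, a ∉ F M → ∀ x ∈ F M, x * a = a * x → x = 1) ∧
    (∀ g : G, g ∉ M → F M ⊓ (MulAut.conj g • F M) = ⊥) ∧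
    (F M ≠ ⊥ ∨ IsMulCommutative M)

variable [Finite G]

theorem exists_isMaxSolvable {H : Subgroup G} (hH : Group.IsSolvable H) :
    ∃ M : Subgroup G, H ≤ M ∧ IsMaxSolvable M := by
  obtain ⟨M, hHM, hM⟩ :=
    (Set.toFinite {K : Subgroup G | Group.IsSolvable K}).exists_le_maximal hH
  exact ⟨M, hHM, hM.prop, fun M' hlt hs => hlt.not_ge (hM.le_of_ge hs hlt.le)⟩

/-- The normaliser of a Sylow 2-subgroup is solvable. -/
theorem isSolvable_normalizer (S : Sylow 2 G) :
    Group.IsSolvable (normalizer ((S : Subgroup G) : Set G)) := by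
  haveI : Fact (Nat.Prime 2) := ⟨Nat.prime_two⟩
  set N := normalizer ((S : Subgroup G) : Set G) with hN
  haveI : Group.IsNilpotent ((S.subtype le_normalizer : Sylow 2 N) : Subgroup N) :=
    (S.subtype le_normalizer).2.isNilpotent
  haveI hn : ((S.subtype le_normalizer : Sylow 2 N) : Subgroup N).Normal := by
    rw [Sylow.coe_subtype]
    exact Subgroup.normal_in_normalizer
  haveI : Group.IsSolvable (N ⧸ ((S.subtype le_normalizer : Sylow 2 N) : Subgroup N)) :=
    S0205.result (Nat.odd_iff.2 (Nat.two_dvd_ne_zero.1 (S.subtype le_normalizer).not_dvd_index))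
  exact Group.isSolvable_of_ker_le_range ((S.subtype le_normalizer : Sylow 2 N) : Subgroup N).subtype
    (QuotientGroup.mk' ((S.subtype le_normalizer : Sylow 2 N) : Subgroup N))
    (by rw [QuotientGroup.ker_mk', Subgroup.range_subtype])

/-- An abelian normaliser of a Sylow 2-subgroup gives a normal 2-complement. -/
theorem isSolvable_of_comm_normalizer (S : Sylow 2 G)
    (hc : IsMulCommutative (normalizer ((S : Subgroup G) : Set G))) : Group.IsSolvable G := by
  haveI : Fact (Nat.Prime 2) := ⟨Nat.prime_two⟩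
  have hP : normalizer ((S : Subgroup G) : Set G) ≤ centralizer ((S : Subgroup G) : Set G) :=
    fun a ha => mem_centralizer_iff.2 fun x hx =>
      congrArg Subtype.val (hc.is_comm.comm ⟨x, le_normalizer hx⟩ ⟨a, ha⟩)
  set K := (MonoidHom.transferSylow S hP).ker with hK
  haveI : Group.IsSolvable K :=
    S0205.result (Nat.odd_iff.2 (Nat.two_dvd_ne_zero.1
      (MonoidHom.not_dvd_card_ker_transferSylow S hP)))
  have hPc : IsMulCommutative (S : Subgroup G) := ⟨⟨fun a b => Subtype.ext (congrArg Subtype.val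
    (hc.is_comm.comm ⟨a, le_normalizer a.2⟩ ⟨b, le_normalizer b.2⟩) :)⟩⟩
  haveI : Group.IsSolvable (S : Subgroup G) := Group.isSolvable_of_comm fun a b => hPc.is_comm.comm a b
  exact Group.isSolvable_of_ker_le_range K.subtype (MonoidHom.transferSylow S hP)
    (by rw [Subgroup.range_subtype])

variable {F : Subgroup G → Subgroup G} (h : Sys F)
include h

theorem ne_top (hns : ¬ Group.IsSolvable G) {M : Subgroup G} (hM : IsMaxSolvable M) : M ≠ ⊤ := by
  rintro rfl
  haveI := hM.1
  exact hns (Group.isSolvable_of_surjective (f := (⊤ : Subgroup G).subtype)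
    fun g => ⟨⟨g, mem_top g⟩, rfl⟩)

/-- A nonsolvable group with a Frobenius system has no abelian normal subgroup. -/
theorem abelian_normal_eq_bot (hns : ¬ Group.IsSolvable G) (A : Subgroup G) (hA : A.Normal)
    (hAc : IsMulCommutative A) : A = ⊥ := by
  by_contra hA1
  haveI : Group.IsSolvable A := Group.isSolvable_of_comm fun a b => hAc.is_comm.comm a b
  obtain ⟨S⟩ := (inferInstance : Nonempty (Sylow 2 G))
  obtain ⟨M, hNM, hM⟩ := exists_isMaxSolvable (isSolvable_normalizer S)
  obtain ⟨hFM, hn, hfpf, hti, hor⟩ := h M hM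
  rcases hor with hF | hMc
  swap
  · exact hns (isSolvable_of_comm_normalizer S ⟨⟨fun a b => Subtype.ext (congrArg Subtype.val
      (hMc.is_comm.comm ⟨a, hNM a.2⟩ ⟨b, hNM b.2⟩) :)⟩⟩)
  have hAM : A ≤ M := by
    by_contra hle
    haveI := hM.1
    exact hM.2 (A ⊔ M) (right_lt_sup.2 hle) (Fischer.isSolvable_sup A M)
  by_cases hAF : A ⊓ F M = ⊥
  · -- `A` centralises `F M`
    obtain ⟨⟨x, hx⟩, hx1⟩ := Subgroup.ne_bot_iff_exists_ne_one.1 hF
    refine hA1 ((Subgroup.eq_bot_iff_forall _).2 fun a ha => ?_)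
    have hc : a * x * a⁻¹ * x⁻¹ ∈ A ⊓ F M := by
      refine mem_inf.2 ⟨?_, (F M).mul_mem ((mem_normalizer_iff.1 (hn (hAM ha)) x).1 hx)
        ((F M).inv_mem hx)⟩
      rw [show a * x * a⁻¹ * x⁻¹ = a * (x * a⁻¹ * x⁻¹) by group]
      exact A.mul_mem ha (hA.conj_mem _ (A.inv_mem ha) x)
    rw [hAF, Subgroup.mem_bot, mul_inv_eq_one, mul_inv_eq_iff_eq_mul] at hc
    by_cases haF : a ∈ F M
    · have : a ∈ A ⊓ F M := ⟨ha, haF⟩
      rwa [hAF, Subgroup.mem_bot] at this
    · exact absurd (hfpf a (hAM ha) haF x hx hc.symm) fun e => hx1 (Subtype.ext e)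
  · obtain ⟨⟨y, hyA, hyF⟩, hy1⟩ := Subgroup.ne_bot_iff_exists_ne_one.1 hAF
    have hAF' : A ≤ F M := fun a ha => by
      by_contra haF
      exact hy1 (Subtype.ext (hfpf a (hAM ha) haF y hyF
        (congrArg Subtype.val (hAc.is_comm.comm ⟨y, hyA⟩ ⟨a, ha⟩))))
    obtain ⟨g, -, hg⟩ := SetLike.exists_of_lt (lt_top_iff_ne_top.2 (ne_top h hns hM))
    refine hA1 (le_bot_iff.1 ((le_inf hAF' ?_).trans (hti g hg).le))
    intro a ha
    refine Subgroup.mem_pointwise_smul_iff_inv_smul_mem.2 (hAF' ?_)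
    rw [← map_inv, MulAut.smul_def, MulAut.conj_apply, inv_inv]
    simpa using hA.conj_mem a ha g⁻¹

theorem solvable_normal_eq_bot (hns : ¬ Group.IsSolvable G) (A : Subgroup G) [A.Normal]
    (hs : Group.IsSolvable A) : A = ⊥ := by
  by_contra hA
  obtain ⟨N, -, hNn, -, hN, -, hNc, -, -⟩ := Solvable.exists_abelian_minimal_normal hs hA
  exact hN (abelian_normal_eq_bot h hns N hNn hNc)

end Cfsg.Agent.FrobSystem
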